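/-
Clifford's theorem at the level of characters (`N` normal in the finite group `G`).

* `conjFun N x θ`, `orbitSum N θ` (= `|N| • indFun N θ` on `N`)
* `classInner_orbitSum` : `[orbitSum θ, φ] = #{x | θ^x = φ}`
* `constituents_conjugate` : constituents of `χ|N` are conjugate
* `restrict_eq` : `χ|N = ([χ|N, θ] / [orbitSum θ, θ]) • orbitSum θ`
-/
import Cfsg.Agent.Lib.Char.Induced

set_option autoImplicit false

namespace Cfsg.Agent.CliffordChar

open Cfsg Cfsg.Agent.Char
open scoped ComplexConjugate

variable {G : Type*} [Group G] (N : Subgroup G) [hN : N.Normal]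

/-- The conjugate `n ↦ θ (x⁻¹ n x)`. -/
def conjFun (x : G) (θ : N → ℂ) : N → ℂ := fun n => θ (MulAut.conjNormal x⁻¹ n)

lemma conjFun_apply (x : G) (θ : N → ℂ) (n : N) :
    conjFun N x θ n = θ ⟨x⁻¹ * n * x, by simpa using hN.conj_mem n n.2 x⁻¹⟩ := by
  unfold conjFun
  congr 1
  ext; simp

lemma conjFun_one (θ : N → ℂ) : conjFun N 1 θ = θ := by
  funext n; simp [conjFun]

lemma conjFun_mul (x y : G) (θ : N → ℂ) : conjFun N (x * y) θ = conjFun N x (conjFun N y θ) := by
  funext n
  simp [conjFun, map_mul, MulAut.mul_apply, mul_inv_rev]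

lemma isIrr_conjFun (x : G) {θ : N → ℂ} (hθ : IsIrrCharacter N θ) :
    IsIrrCharacter N (conjFun N x θ) :=
  IsIrrCharacter.comp_equiv hθ (MulAut.conjNormal x⁻¹ : MulAut N)

lemma conjFun_restrict {χ : G → ℂ} (hχ : IsClassFunction G χ) (x : G) :
    conjFun N x (fun n : N => χ n) = fun n : N => χ n := by
  funext n
  rw [conjFun_apply]
  simpa using hχ n x⁻¹

lemma classInner_conjFun [Fintype N] (x : G) (θ φ : N → ℂ) :
    classInner (conjFun N x θ) (conjFun N x φ) = classInner θ φ :=
  classInner_comp_equiv (MulAut.conjNormal x⁻¹ : MulAut N) θ φ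

lemma classInner_restrict_conjFun [Fintype N] {χ : G → ℂ} (hχ : IsClassFunction G χ) (x : G)
    (θ : N → ℂ) :
    classInner (fun n : N => χ n) (conjFun N x θ) = classInner (fun n : N => χ n) θ := by
  conv_lhs => rw [← conjFun_restrict N hχ x]
  exact classInner_conjFun N x _ θ

variable [Fintype G]

/-- The sum of all conjugates of `θ`. -/
def orbitSum (θ : N → ℂ) : N → ℂ := ∑ x : G, conjFun N x θ

lemma indFun_coe (θ : N → ℂ) (n : N) :
    indFun N θ (n : G) = (Nat.card N : ℂ)⁻¹ * orbitSum N θ n := by
  rw [indFun, orbitSum, Finset.sum_apply]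
  congr 1
  refine Finset.sum_congr rfl fun x _ => ?_
  rw [conjFun_apply, extendByZero_mem]

lemma indFun_not_mem (θ : N → ℂ) {g : G} (hg : g ∉ N) : indFun N θ g = 0 := by
  rw [indFun, Finset.sum_eq_zero, mul_zero]
  intro x _
  refine extendByZero_not_mem N θ fun h => hg ?_
  have := hN.conj_mem _ h x
  simpa [mul_assoc] using this

open Classical in
lemma classInner_orbitSum [Fintype N] {θ φ : N → ℂ} (hθ : IsIrrCharacter N θ) (hφ : IsIrrCharacter N φ) :
    classInner (orbitSum N θ) φ = ((Finset.univ.filter fun x : G => conjFun N x θ = φ).card : ℂ) := by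
  rw [orbitSum, classInner_sum_left, Finset.sum_congr rfl fun x _ =>
    classInner_irr (isIrr_conjFun N x hθ) hφ, Finset.sum_boole]

lemma orbitSum_inner_self_ne_zero [Fintype N] {θ : N → ℂ} (hθ : IsIrrCharacter N θ) :
    classInner (orbitSum N θ) θ ≠ 0 := by
  classical
  rw [classInner_orbitSum N hθ hθ, Nat.cast_ne_zero, Finset.card_ne_zero]
  exact ⟨1, Finset.mem_filter.mpr ⟨Finset.mem_univ _, conjFun_one N θ⟩⟩

/-- Constituents of the restriction of an irreducible character are conjugate. -/
theorem constituents_conjugate [Fintype N] {χ : G → ℂ} (hχ : IsIrrCharacter G χ) {θ φ : N → ℂ}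
    (hθ : IsIrrCharacter N θ) (hφ : IsIrrCharacter N φ)
    (h1 : classInner (fun n : N => χ n) θ ≠ 0) (h2 : classInner (fun n : N => χ n) φ ≠ 0) :
    ∃ x : G, conjFun N x θ = φ := by
  classical
  by_contra hno
  push_neg at hno
  haveI : Fintype (IrrCharacter G) := Fintype.ofFinite _
  have hcl := IsIrrCharacter.isClassFunction hχ
  have hzero : classInner (indFun N φ) (indFun N θ) = 0 := by
    rw [frobenius_reciprocity N φ (indFun_isClassFunction N θ),
      show (fun n : N => indFun N θ (n : G)) = (Nat.card N : ℂ)⁻¹ • orbitSum N θ from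
        funext fun n => indFun_coe N θ n,
      classInner_smul_right, ← classInner_conj_symm (orbitSum N θ) φ, classInner_orbitSum N hθ hφ,
      Finset.filter_false_of_mem fun x _ => hno x]
    simp
  have hnat : ∀ (ψ : IrrCharacter G) (η : N → ℂ), IsIrrCharacter N η →
      ∃ m : ℕ, classInner (indFun N η) (ψ : G → ℂ) = m := fun ψ η hη =>
    IsCharacter.classInner_nat (IsCharacter.indFun N (IsIrrCharacter.isCharacter hη))
      (IsIrrCharacter.isCharacter ψ.2)
  choose a ha using fun ψ => hnat ψ φ hφ
  choose b hb using fun ψ => hnat ψ θ hθ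
  rw [classInner_eq_sum (indFun_isClassFunction N φ)] at hzero
  simp only [ha, hb, Complex.conj_natCast, ← Nat.cast_mul] at hzero
  rw [← Nat.cast_sum, Nat.cast_eq_zero, Finset.sum_eq_zero_iff] at hzero
  have hprod := hzero ⟨χ, hχ⟩ (Finset.mem_univ _)
  rcases mul_eq_zero.mp hprod with h | h
  · apply h2
    have := ha ⟨χ, hχ⟩
    rw [h, Nat.cast_zero, frobenius_reciprocity N φ hcl] at this
    rw [← classInner_conj_symm, this, map_zero]
  · apply h1
    have := hb ⟨χ, hχ⟩
    rw [h, Nat.cast_zero, frobenius_reciprocity N θ hcl] at this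
    rw [← classInner_conj_symm, this, map_zero]

/-- Clifford: the restriction is a multiple of the orbit sum. -/
theorem restrict_eq [Fintype N] {χ : G → ℂ} (hχ : IsIrrCharacter G χ) {θ : N → ℂ}
    (hθ : IsIrrCharacter N θ) (h1 : classInner (fun n : N => χ n) θ ≠ 0) :
    (fun n : N => χ n) =
      (classInner (fun n : N => χ n) θ / classInner (orbitSum N θ) θ) • orbitSum N θ := by
  classical
  have hcl := IsIrrCharacter.isClassFunction hχ
  have hres : IsClassFunction N (fun n : N => χ n) :=
    IsCharacter.isClassFunction (IsCharacter.restrict (IsIrrCharacter.isCharacter hχ) N)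
  refine classFunction_ext hres (isClassFunction_smul (isClassFunction_sum _ fun x _ =>
    IsIrrCharacter.isClassFunction (isIrr_conjFun N x hθ)) _) fun φ => ?_
  rw [classInner_smul_left]
  by_cases hc : ∃ y : G, conjFun N y θ = (φ : N → ℂ)
  · obtain ⟨y, hy⟩ := hc
    have hinv : classInner (orbitSum N θ) (φ : N → ℂ) = classInner (orbitSum N θ) θ := by
      rw [classInner_orbitSum N hθ φ.2, classInner_orbitSum N hθ hθ]
      congr 1
      refine (Finset.card_equiv (Equiv.mulLeft y) fun x => ?_).symm
      simp only [Finset.mem_filter, Finset.mem_univ, true_and, Equiv.coe_mulLeft, conjFun_mul, ← hy]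
      refine ⟨fun h => by rw [h], fun h => ?_⟩
      have := congrArg (conjFun N y⁻¹) h
      simpa [← conjFun_mul, conjFun_one] using this
    rw [hinv, div_mul_cancel₀ _ (orbitSum_inner_self_ne_zero N hθ), ← hy,
      classInner_restrict_conjFun N hcl]
  · have h0 : classInner (orbitSum N θ) (φ : N → ℂ) = 0 := by
      rw [classInner_orbitSum N hθ φ.2, Finset.filter_false_of_mem fun x _ hx => hc ⟨x, hx⟩]
      simp
    rw [h0, mul_zero]
    by_contra hne
    exact hc (constituents_conjugate N hχ hθ φ.2 h1 hne)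

end Cfsg.Agent.CliffordChar
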