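/-
Twisting the Clifford correspondent of an extendible character by linear characters
(`N` normal in `G` and contained in `G'`).

* `hom_apply_of_le_commutator` : a linear character is trivial on `N`
* `card_hom_le_index` : at most `|G : I|` linear characters agree on `I`
* `twist_data` : `Ind (ψ * l|I)` is irreducible and determines `l|I`
* `card_le_of_twist` : the resulting count
-/
import Cfsg.Agent.Lib.CharApp.DegreeSets

set_option autoImplicit false
set_option linter.style.haveILetI false

namespace Cfsg.Agent.CliffordChar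

open Cfsg Cfsg.Agent.Char
open scoped ComplexConjugate

variable {G : Type*} [Group G]

theorem le_commutator_of_perfect {N : Subgroup G} (hN : ⁅N, N⁆ = N) : N ≤ commutator G := by
  conv_lhs => rw [← hN]
  rw [commutator_def]
  exact Subgroup.commutator_mono le_top le_top

theorem hom_apply_of_le_commutator {N : Subgroup G} (hN : N ≤ commutator G) (l : G →* ℂ) {n : G}
    (hn : n ∈ N) : l n = 1 := by
  have := Abelianization.commutator_subset_ker l.toHomUnits (hN hn)
  rw [MonoidHom.mem_ker] at this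
  rw [← MonoidHom.coe_toHomUnits, this, Units.val_one]

theorem commutator_eq_of_minimal_nonabelian (N : Subgroup G) [N.Normal]
    (hmin : ∀ M : Subgroup G, M.Normal → M ≤ N → M = ⊥ ∨ M = N) (hna : ¬ IsMulCommutative ↥N) :
    ⁅N, N⁆ = N := by
  refine (hmin ⁅N, N⁆ inferInstance (Subgroup.commutator_le_self N)).resolve_left fun h => hna ?_
  exact Subgroup.le_centralizer_iff_isMulCommutative.1
    (Subgroup.commutator_eq_bot_iff_le_centralizer.1 h)

open Classical in
theorem card_hom_le_index [Finite G] (I : Subgroup G) (l : G →* ℂ) :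
    Nat.card {m : G →* ℂ // ∀ i ∈ I, m i = l i} ≤ I.index := by
  haveI := Fintype.ofFinite (G ⧸ I)
  let s : {m : G →* ℂ // ∀ i ∈ I, m i = l i} → (G ⧸ I) → ℂ := fun m q => m.1 q.out
  have hsec : ∀ (m : {m : G →* ℂ // ∀ i ∈ I, m i = l i}) (g : G),
      m.1 g = s m g * l ((g : G ⧸ I).out⁻¹ * g) := by
    intro m g
    have hi : (g : G ⧸ I).out⁻¹ * g ∈ I :=
      QuotientGroup.eq.1 (QuotientGroup.out_eq' (g : G ⧸ I))
    show m.1 g = m.1 _ * _
    rw [← m.2 _ hi, ← map_mul, mul_inv_cancel_left]
  have hli : LinearIndependent ℂ s := by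
    have h0 : LinearIndependent ℂ
        (fun m : {m : G →* ℂ // ∀ i ∈ I, m i = l i} => (m.1 : G → ℂ)) :=
      (linearIndependent_monoidHom G ℂ).comp Subtype.val Subtype.val_injective
    let T : ((G ⧸ I) → ℂ) →ₗ[ℂ] (G → ℂ) :=
      { toFun := fun f g => f g * l ((g : G ⧸ I).out⁻¹ * g)
        map_add' := fun f f' => by funext g; simp [add_mul]
        map_smul' := fun c f => by funext g; simp [mul_assoc] }
    refine LinearIndependent.of_comp T ?_
    have : T ∘ s = fun m : {m : G →* ℂ // ∀ i ∈ I, m i = l i} => (m.1 : G → ℂ) :=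
      funext fun m => funext fun g => (hsec m g).symm
    rwa [this]
  haveI : Finite {m : G →* ℂ // ∀ i ∈ I, m i = l i} := hli.finite
  haveI := Fintype.ofFinite {m : G →* ℂ // ∀ i ∈ I, m i = l i}
  have h := hli.fintype_card_le_finrank
  rwa [Module.finrank_pi, ← Nat.card_eq_fintype_card, ← Nat.card_eq_fintype_card] at h

variable [Fintype G] (N : Subgroup G) [N.Normal] (I : Subgroup G)

theorem twist_data [Fintype I] (hNG : N ≤ commutator G) {φ : N → ℂ} (hφ : IsIrrCharacter N φ)
    (hI : I = CharApp.inertia N φ) (hNI : N ≤ I) {ψ : I → ℂ} (hψ : IsIrrCharacter I ψ)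
    (hψN : ∀ n : N, ψ (Subgroup.inclusion hNI n) = φ n) (l : G →* ℂ) :
    IsIrrCharacter I (fun i : I => ψ i * l i) ∧
      IsIrrCharacter G (indFun I (fun i : I => ψ i * l i)) ∧
      ∀ m : G →* ℂ, indFun I (fun i : I => ψ i * m i) = indFun I (fun i : I => ψ i * l i) →
        ∀ i ∈ I, m i = l i := by
  classical
  haveI := Fintype.ofFinite N
  subst hI
  have hirr : ∀ m : G →* ℂ, IsIrrCharacter (CharApp.inertia N φ)
      (fun i => ψ i * m (i : G)) := fun m =>
    IsIrrCharacter.mul_linear hψ (m.comp (CharApp.inertia N φ).subtype)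
  have hres : ∀ m : G →* ℂ, (fun n : N =>
      ψ ⟨(n : G), CharApp.le_inertia N (IsIrrCharacter.isClassFunction hφ) n.2⟩ * m n) = φ := by
    intro m
    funext n
    rw [hom_apply_of_le_commutator hNG m n.2, mul_one]
    exact hψN n
  have hover : ∀ m : G →* ℂ, classInner (fun n : N =>
      (fun i : CharApp.inertia N φ => ψ i * m i)
        ⟨(n : G), CharApp.le_inertia N (IsIrrCharacter.isClassFunction hφ) n.2⟩) φ ≠ 0 := by
    intro m
    show classInner (fun n : N =>
      ψ ⟨(n : G), CharApp.le_inertia N (IsIrrCharacter.isClassFunction hφ) n.2⟩ * m n) φ ≠ 0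
    rw [hres m, classInner_irr_self hφ]
    exact one_ne_zero
  obtain ⟨h1, -, h3⟩ := CharApp.clifford_correspondence N hφ (hirr l) (hover l)
  refine ⟨hirr l, h1, fun m hm i hi => ?_⟩
  have heq := h3 _ (hirr m) (hover m) hm
  let e := Subgroup.subgroupOfEquivOfLe hNI
  have hres' : IsIrrCharacter (N.subgroupOf (CharApp.inertia N φ)) (fun x : N.subgroupOf (CharApp.inertia N φ) => ψ x) := by
    have : (fun x : N.subgroupOf (CharApp.inertia N φ) => ψ x) = φ ∘ e := funext fun x => hψN (e x)
    rw [this]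
    exact IsIrrCharacter.comp_equiv hφ e
  have ht : ∀ k : G →* ℂ, CharApp.TrivOn (N.subgroupOf (CharApp.inertia N φ)) (fun i : CharApp.inertia N φ => k i) := by
    intro k x
    show k ((x : CharApp.inertia N φ) : G) = k ((1 : CharApp.inertia N φ) : G)
    rw [hom_apply_of_le_commutator hNG k (Subgroup.mem_subgroupOf.1 x.2), OneMemClass.coe_one, map_one]
  have := CharApp.gallagher_injective (N.subgroupOf (CharApp.inertia N φ)) hψ hres'
    (isIrrCharacter_of_hom (m.comp (CharApp.inertia N φ).subtype)) (isIrrCharacter_of_hom (l.comp (CharApp.inertia N φ).subtype))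
    (ht m) (ht l) heq
  exact congrFun this ⟨i, hi⟩

/-- If linear characters in `L` twist into characters in `D`, then `|L| ≤ |G : I| |D|`. -/
theorem card_le_of_twist [Fintype I] (hNG : N ≤ commutator G) {φ : N → ℂ} (hφ : IsIrrCharacter N φ)
    (hI : I = CharApp.inertia N φ) (hNI : N ≤ I) {ψ : I → ℂ} (hψ : IsIrrCharacter I ψ)
    (hψN : ∀ n : N, ψ (Subgroup.inclusion hNI n) = φ n) (P Q : IrrCharacter G → Prop)
    (hP : ∀ χ, P χ → (χ : G → ℂ) 1 = 1)
    (hPQ : ∀ (χ : IrrCharacter G) (h : IsIrrCharacter G (indFun I fun i : I => ψ i * (χ : G → ℂ) i)),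
      P χ → Q ⟨_, h⟩) :
    Nat.card {χ : IrrCharacter G // P χ} ≤ I.index * Nat.card {χ : IrrCharacter G // Q χ} := by
  classical
  haveI := Fintype.ofFinite {χ : IrrCharacter G // P χ}
  haveI := Fintype.ofFinite {χ : IrrCharacter G // Q χ}
  choose l hl using fun χ : {χ : IrrCharacter G // P χ} =>
    exists_hom_of_degree_one (IsIrrCharacter.isCharacter χ.1.2) (hP _ χ.2)
  have hfun : ∀ χ : {χ : IrrCharacter G // P χ},
      (fun i : I => ψ i * (χ.1 : G → ℂ) i) = fun i : I => ψ i * l χ i := fun χ => by rw [hl]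
  have hirr : ∀ χ : {χ : IrrCharacter G // P χ},
      IsIrrCharacter G (indFun I fun i : I => ψ i * (χ.1 : G → ℂ) i) := fun χ => by
    rw [hfun]; exact (twist_data N I hNG hφ hI hNI hψ hψN (l χ)).2.1
  let F : {χ : IrrCharacter G // P χ} → {χ : IrrCharacter G // Q χ} :=
    fun χ => ⟨⟨_, hirr χ⟩, hPQ χ.1 (hirr χ) χ.2⟩
  rw [Nat.card_eq_fintype_card, Nat.card_eq_fintype_card, ← Finset.card_univ, ← Finset.card_univ]
  refine Finset.card_le_mul_card_image_of_maps_to (f := F) (fun a _ => Finset.mem_univ _) _ ?_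
  intro b _
  rcases (Finset.univ.filter fun a => F a = b).eq_empty_or_nonempty with he | ⟨a, ha⟩
  · simp [he]
  have hFa := (Finset.mem_filter.1 ha).2
  refine le_trans ?_ (card_hom_le_index I (l a))
  haveI : Finite {m : G →* ℂ // ∀ i ∈ I, m i = l a i} :=
    ((linearIndependent_monoidHom G ℂ).comp Subtype.val Subtype.val_injective).finite
  rw [← Nat.card_eq_finsetCard]
  refine Nat.card_le_card_of_injective (fun c => ⟨l c.1, fun i hi => ?_⟩) ?_
  · have hc : F c.1 = F a := ((Finset.mem_filter.1 c.2).2).trans hFa.symm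
    have h := congrArg (fun x : {χ : IrrCharacter G // Q χ} => (x.1 : G → ℂ)) hc
    simp only [F] at h
    rw [hfun, hfun] at h
    exact (twist_data N I hNG hφ hI hNI hψ hψN (l a)).2.2 _ h i hi
  · intro c c' h
    have h' : (l c.1 : G →* ℂ) = l c'.1 := congrArg Subtype.val h
    refine Subtype.ext (Subtype.ext (Subtype.ext ?_))
    rw [← hl c.1, ← hl c'.1, h']

end Cfsg.Agent.CliffordChar
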